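import Cfsg.Agent.H628.EPX.KillOdd
import Cfsg.Agent.H67.RG.TwFCent
import Cfsg.Agent.H686.EX.Kill
import Cfsg.Agent.BiChar.SmallCard
import Cfsg.Agent.H648.EPV.ExcSmall
import Cfsg.Agent.H805.EPX.Rows

/-!
# S5745: the Tits group in `²F₄(q)`, `q ≥ 8` (helper628)
-/

set_option autoImplicit false
set_option linter.unusedSectionVars false

namespace Cfsg.Agent.H628.EPX

open MulAction Subgroup Cfsg Cfsg.Lie Cfsg.Agent.H284 Cfsg.Agent.H209.EPX Cfsg.Agent.H807.EPX
open Cfsg.Agent.H805.EPX (NoRow)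

theorem small {K : Type} [Field K] [Fintype K] {m : ℕ} (hm : 1 ≤ m) (hK : Fintype.card K = 2 ^ (2 * m + 1)) :
    Small K (2 ^ m) := by
  intro x hx hx2
  have := Cfsg.Agent.H67.RG.card_cent_le hm hK hx hx2 rfl
  rwa [Nat.card_eq_fintype_card (α := K)] at this

theorem card_le_tits {G : Type} [Group G] [Finite G] {H N : Subgroup G} {T : Type} [Group T] {e : N ≃* (Fin 1 → T)}
    (h : EPS H N e) (hT : IsoTits T) : Nat.card H ≤ 35942400 := by
  let e' : N ≃* T := e.trans (MulEquiv.funUnique (Fin 1) T)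
  have hN : NIn N H := h.toNIn
  have h2 := Cfsg.Agent.H686.EX.relIndex_dvd_out hN h.cent e'
  have h2' : Nat.card N * N.relIndex H = Nat.card H := by
    have h3 := (N.subgroupOf H).card_mul_index
    rwa [Nat.card_congr (Subgroup.subgroupOfEquivOfLe hN.le).toEquiv] at h3
  have hcT : Nat.card T = 17971200 := Cfsg.Agent.BiChar.Small.card_of_isoTits hT
  have ho : Nat.card (Out T) ≤ 2 := Cfsg.Agent.H648.EPV.out_tits hT
  have hfin : Finite T := Finite.of_equiv _ e'.toEquiv
  have hpos : 0 < Nat.card (Out T) := Nat.card_pos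
  rw [← h2', Nat.card_congr e'.toEquiv, hcT]
  have := Nat.le_of_dvd hpos h2
  omega

/-- **the row** -/
theorem tits_row {K : Type} [Field K] [Fintype K] {m : ℕ} (hm : 1 ≤ m) (hK : Fintype.card K = 2 ^ (2 * m + 1))
    {H N : Subgroup ↥(twistedF4 K (2 ^ m))} {T : Type} [Group T] {e : N ≃* (Fin 1 → T)} (h : EPS H N e)
    (hT : IsoTits T)
    (hM : ∀ t : T, orderOf t = 2 → IsPGroup 2 (centralizer {t}) → 2 ∣ (centralizer {t}).index) : False := by
  have hfin : Finite ↥(twistedF4 K (2 ^ m)) := inferInstance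
  exact kill_card hm hK (small hm hK) h (Cfsg.Agent.H742.EX.EPS.hM_two h hM)
    ((card_le_tits h hT).trans (by norm_num))

end Cfsg.Agent.H628.EPX
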