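import Cfsg.Agent.H742.EX.NoS
import Cfsg.Agent.H807.EPX.EPi
import Cfsg.Agent.S1068

/-!
# S5745, `²F₄(q)`, `q ≥ 8`: small stabilisers (helper628)

`Small K e` : `|C(x)| ≤ q ^ 8` for the elements `x` of odd prime order of `²F₄(q)`.

* `kill_odd` : no `EPS H N e` with `|H| ^ 2 < 1.7 q ^ 18` (`no two-point stabiliser a 2-group`);
* `kill_card` : the same, `|H| ≤ 170000000`;
* `kill_dvd` : the same for `k = 1`, with `|H| ≤ |T| |Out T|` as input.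
-/

set_option autoImplicit false
set_option linter.unusedSectionVars false

namespace Cfsg.Agent.H628.EPX

open MulAction Subgroup Cfsg Cfsg.Lie Cfsg.Agent.H284 Cfsg.Agent.H209.EPX Cfsg.Agent.H807.EPX

/-- `|C(x)| ≤ q ^ 8` for all elements `x` of odd prime order -/
def Small (K : Type) [Field K] [Fintype K] (e : ℕ) : Prop :=
  ∀ x : ↥(twistedF4 K e), (orderOf x).Prime → orderOf x ≠ 2 →
    Nat.card (centralizer ({x} : Set ↥(twistedF4 K e))) ≤ Fintype.card K ^ 8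

theorem arith {q : ℕ} (h8 : 8 ≤ q) {a : ℕ} (ha : 10 * a ≤ 17 * q ^ 18)
    (h : 2 * (q ^ 12 * (q - 1) * (q ^ 3 + 1) * (q ^ 4 - 1) * (q ^ 6 + 1)) ≤ a * q ^ 8) : False := by
  obtain ⟨r, rfl⟩ : ∃ r, q = r + 1 := ⟨q - 1, by omega⟩
  have hr : 7 ≤ r := by omega
  rw [Nat.add_sub_cancel] at h
  set Q := r + 1 with hQ
  have hQ8 : 8 ≤ Q := h8
  have e4 : Q ^ 4 - 1 + 1 = Q ^ 4 := Nat.sub_add_cancel (Nat.one_le_pow _ _ (by omega))
  have h4 : 4095 * Q ^ 4 ≤ 4096 * (Q ^ 4 - 1) := by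
    have h5 : 4096 ≤ Q ^ 4 := by
      calc 4096 = 8 ^ 4 := by norm_num
        _ ≤ Q ^ 4 := Nat.pow_le_pow_left hQ8 4
    omega
  have h1 : 7 * Q ≤ 8 * r := by omega
  have k1 : Q ^ 12 * (7 * Q) * Q ^ 3 * (4095 * Q ^ 4) * Q ^ 6 ≤
      Q ^ 12 * (8 * r) * (Q ^ 3 + 1) * (4096 * (Q ^ 4 - 1)) * (Q ^ 6 + 1) := by
    gcongr
    · omega
    · omega
  have k2 : Q ^ 12 * (7 * Q) * Q ^ 3 * (4095 * Q ^ 4) * Q ^ 6 = 28665 * Q ^ 26 := by ring
  have k3 : Q ^ 12 * (8 * r) * (Q ^ 3 + 1) * (4096 * (Q ^ 4 - 1)) * (Q ^ 6 + 1) =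
      32768 * (Q ^ 12 * r * (Q ^ 3 + 1) * (Q ^ 4 - 1) * (Q ^ 6 + 1)) := by ring
  rw [k2, k3] at k1
  have k4 : 10 * (a * Q ^ 8) ≤ 17 * Q ^ 26 := by
    calc 10 * (a * Q ^ 8) = 10 * a * Q ^ 8 := by ring
      _ ≤ 17 * Q ^ 18 * Q ^ 8 := Nat.mul_le_mul_right _ ha
      _ = 17 * Q ^ 26 := by ring
  have hpos : 0 < Q ^ 26 := Nat.pow_pos (by omega)
  -- `57330 Q^26 ≤ 32768 * 1.7 Q^26 = 55705.6 Q^26`
  omega

variable {K : Type} [Field K] [Fintype K] {m : ℕ}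

/-- **small stabilisers** -/
theorem kill_odd (hm : 1 ≤ m) (hK : Fintype.card K = 2 ^ (2 * m + 1)) (hC : Small K (2 ^ m))
    {H N : Subgroup ↥(twistedF4 K (2 ^ m))} {T : Type} [Group T] {k : ℕ} {e : N ≃* (Fin k → T)} (h : EPS H N e)
    (hM : ∀ g ∉ H, ∃ r ∈ (Nat.card H).primeFactors.erase 2, r ∣ Nat.card (H ⊓ cj g H : Subgroup ↥(twistedF4 K (2 ^ m))))
    (hB : 10 * Nat.card H ^ 2 ≤ 17 * Fintype.card K ^ 18) : False := by
  have hfin : Finite ↥(twistedF4 K (2 ^ m)) := inferInstance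
  have h8 : 8 ≤ Fintype.card K := by
    rw [hK]
    calc 8 = 2 ^ 3 := by norm_num
      _ ≤ _ := Nat.pow_le_pow_right (by norm_num) (by omega)
  have h2 : 2 ∣ Fintype.card K ^ 8 := by
    rw [hK]; exact dvd_pow (dvd_pow_self 2 (by omega)) (by norm_num)
  obtain ⟨z, hz⟩ := h2
  have key : Nat.card ↥(twistedF4 K (2 ^ m)) ≤ Nat.card H ^ 2 * z := by
    refine EPi_sq (π := {r : ℕ | r.Prime ∧ r ≠ 2}) (fun _ hr => hr.1) ?_ h.ep.max.1 ?_
    · intro y hy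
      obtain ⟨r, hr, hd⟩ := hM y hy
      rw [Finset.mem_erase, Nat.mem_primeFactors] at hr
      exact ⟨r, ⟨hr.2.1, hr.1⟩, hd⟩
    · intro x _ hx
      have h1 := hC x hx.1 hx.2
      rw [hz] at h1
      have h3 : 3 ≤ orderOf x := by
        have := hx.1.two_le
        have := hx.2
        omega
      calc Nat.card (centralizer ({x} : Set ↥(twistedF4 K (2 ^ m)))) ≤ 2 * z := h1
        _ = z * 2 := Nat.mul_comm _ _
        _ ≤ z * (orderOf x - 1) := Nat.mul_le_mul_left _ (by omega)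
  have hcard : Nat.card ↥(twistedF4 K (2 ^ m)) = Fintype.card K ^ 12 * (Fintype.card K - 1) *
      (Fintype.card K ^ 3 + 1) * (Fintype.card K ^ 4 - 1) * (Fintype.card K ^ 6 + 1) := by
    rw [Cfsg.Agent.S1068.result hK, hK]
  refine arith h8 hB ?_
  rw [← hcard]
  calc 2 * Nat.card ↥(twistedF4 K (2 ^ m)) ≤ 2 * (Nat.card H ^ 2 * z) := Nat.mul_le_mul_left _ key
    _ = Nat.card H ^ 2 * (2 * z) := by ring
    _ = _ := by rw [← hz]

theorem kill_card (hm : 1 ≤ m) (hK : Fintype.card K = 2 ^ (2 * m + 1)) (hC : Small K (2 ^ m))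
    {H N : Subgroup ↥(twistedF4 K (2 ^ m))} {T : Type} [Group T] {k : ℕ} {e : N ≃* (Fin k → T)} (h : EPS H N e)
    (hM : ∀ g ∉ H, ∃ r ∈ (Nat.card H).primeFactors.erase 2, r ∣ Nat.card (H ⊓ cj g H : Subgroup ↥(twistedF4 K (2 ^ m))))
    (hB : Nat.card H ≤ 170000000) : False := by
  refine kill_odd hm hK hC h hM ?_
  have h8 : 8 ≤ Fintype.card K := by
    rw [hK]
    calc 8 = 2 ^ 3 := by norm_num
      _ ≤ _ := Nat.pow_le_pow_right (by norm_num) (by omega)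
  calc 10 * Nat.card H ^ 2 ≤ 10 * 170000000 ^ 2 := Nat.mul_le_mul_left _ (Nat.pow_le_pow_left hB 2)
    _ ≤ 17 * 8 ^ 18 := by norm_num
    _ ≤ 17 * Fintype.card K ^ 18 := Nat.mul_le_mul_left _ (Nat.pow_le_pow_left h8 18)

/-- the form `|H| * |H| < q ^ 18` -/
theorem kill_sq (hm : 1 ≤ m) (hK : Fintype.card K = 2 ^ (2 * m + 1)) (hC : Small K (2 ^ m))
    {H N : Subgroup ↥(twistedF4 K (2 ^ m))} {T : Type} [Group T] {k : ℕ} {e : N ≃* (Fin k → T)} (h : EPS H N e)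
    (hM : ∀ g ∉ H, ∃ r ∈ (Nat.card H).primeFactors.erase 2, r ∣ Nat.card (H ⊓ cj g H : Subgroup ↥(twistedF4 K (2 ^ m))))
    (hB : Nat.card H * Nat.card H < Fintype.card K ^ 18) : False := by
  refine kill_odd hm hK hC h hM ?_
  rw [pow_two]
  omega

end Cfsg.Agent.H628.EPX
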